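import Mathlib
import Groth.Prelude.Def_DCoh2
import Groth.Prelude.Def_Coh
import Groth.Agent.Lib.Helper5.MV.TotalRDCd
import Groth.Agent.Lib.Helper5.QC.RpushQC

/-!
# Classical higher direct images versus `Rf_*` on the derived category (helper5)
-/
set_option autoImplicit false
set_option linter.style.haveILetI false
universe u
open CategoryTheory CategoryTheory.Limits AlgebraicGeometry Opposite TopologicalSpace

attribute [local instance] HasDerivedCategory.standard

namespace Groth.Agent.Lib.Helper5.RpushClassic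

open Groth.Agent.Lib.Helper5.TotalRD Groth.Agent.Lib.Helper5.QC Groth.Agent.Helper1

variable {X Y : Scheme.{u}}

/-- `M[0]` lies in `D_QCoh` for `M` quasi-coherent -/
theorem isQCohD_inD (M : X.Modules) [M.IsQuasicoherent] : DCoh.IsQCohD (DCoh.inD X M) := by
  intro i
  by_cases hi : i = 0
  · subst hi
    let e : M ≅ DCoh.HD (DCoh.inD X M) 0 :=
      ((DerivedCategory.singleFunctorCompHomologyFunctorIso X.Modules 0).app M).symm
    exact QcAbel.isQuasicoherent_of_iso e
  · apply QcAbel.isQuasicoherent_of_isZero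
    rcases lt_or_gt_of_ne hi with h | h
    · exact DerivedCategory.isZero_of_isGE _ 0 i h
    · exact DerivedCategory.isZero_of_isLE _ 0 i h

/-- **`R^p f_* M ≅ H^p(Rf_* (M[0]))`** -/
noncomputable def rpushIsoHD (f : X ⟶ Y) [HasInjectiveResolutions X.Modules] [DCoh.HasRpush f]
    (M : X.Modules) (p : ℕ) :
    (Coh.Rpush f p).obj M ≅ DCoh.HD ((DCoh.Rpush f).obj (DCoh.inD X M)) (p : ℤ) :=
  (homologyIsoRightDerived (Scheme.Modules.pushforward f) (injectiveResolution M) p).symm ≪≫
    (homologyRfSingleIso (Scheme.Modules.pushforward f) (injectiveResolution M) 0 (p : ℤ) (p : ℤ)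
      (by omega)).symm

/-- **higher direct images of a quasi-coherent module along a qcqs morphism are
quasi-coherent** -/
theorem isQuasicoherent_rpush (f : X ⟶ Y) [QuasiCompact f] [QuasiSeparated f]
    [HasInjectiveResolutions X.Modules] (M : X.Modules) [M.IsQuasicoherent] (p : ℕ) :
    ((Coh.Rpush f p).obj M).IsQuasicoherent := by
  haveI : DCoh.HasRpush f := Groth.Agent.Helper3.KInjDer.hasRightDerivedFunctor (DCoh.pushKh f)
  haveI := isQCohD_rpush f (DCoh.inD X M) (isQCohD_inD M) (p : ℤ)
  exact QcAbel.isQuasicoherent_of_iso (rpushIsoHD f M p).symm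

end Groth.Agent.Lib.Helper5.RpushClassic
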